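import Groth.Agent.CrossLib.Square
import Groth.Agent.BivarLib.Pieces
import Groth.Agent.S1859
import Groth.Agent.InsepLenLib.Scheme

/-!
# Exterior products of cycles and operational classes
-/

set_option autoImplicit false
set_option backward.isDefEq.respectTransparency false
set_option linter.style.haveILetI false
set_option linter.unusedSectionVars false

universe u

open CategoryTheory CategoryTheory.Limits AlgebraicGeometry TopologicalSpace

noncomputable section

namespace Groth.Agent.CrossLib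

open CycLib BivarLib

variable {k : Type u} [Field k] {X Y P : Scheme.{u}} (pX : X ⟶ Spec (CommRingCat.of k))
  (pY : Y ⟶ Spec (CommRingCat.of k)) [LocallyOfFiniteType pX] [LocallyOfFiniteType pY]
  (q₁ : P ⟶ X) (q₂ : P ⟶ Y) (hP : IsPullback q₁ q₂ pX pY)
  (δX : X → ℤ) (δY : Y → ℤ) (δP : P → ℤ)
  (hδX : Cyc.DeltaCompat pX δX (fun _ => 0)) (hδY : Cyc.DeltaCompat pY δY (fun _ => 0))
  (hδP : Cyc.DeltaCompat q₁ δP δX)

include hP hδX hδY hδP in
theorem deltaCompat_q₂ : Cyc.DeltaCompat q₂ δP δY := by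
  haveI : LocallyOfFiniteType q₁ := MorphismProperty.of_isPullback hP.flip (inferInstance : LocallyOfFiniteType pY)
  haveI : LocallyOfFiniteType q₂ := MorphismProperty.of_isPullback hP (inferInstance : LocallyOfFiniteType pX)
  have h := Bivar.deltaCompat_comp q₁ pX δP δX (fun _ => 0) hδP hδX
  rw [hP.w] at h
  exact deltaCompat_of_comp q₂ pY h hδY

/-- The data attached to an effective cycle on the second factor. -/
structure Data (v : AlgebraicCycle Y ℤ) (r : ℕ) where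
  P' : Scheme.{u}
  h : P' ⟶ P
  pr₁ : P' ⟶ X
  pr₂ : P' ⟶ Wt v
  δ' : P' → ℤ
  sq : IsPullback h pr₂ q₂ (jW v)
  sqX : IsPullback pr₁ pr₂ pX (pW v pY)
  w : h ≫ q₁ = pr₁
  fin : IsFinite h
  flat : Flat pr₁
  lft : LocallyOfFiniteType pr₁
  relDim : Cyc.HasRelDim pr₁ r
  setup : Cyc.IsSetup P' δ'
  shift : IsShift pr₁ δ' δX r
  compat₁ : Cyc.DeltaCompat pr₁ δ' δX
  compat₂ : Cyc.DeltaCompat pr₂ δ' (δW v δY)
  compat : Cyc.DeltaCompat h δ' δP

include hP hδX hδY hδP in
theorem exists_data (v : AlgebraicCycle Y ℤ) {r : ℕ} (hv : v ∈ Cyc.Zk Y δY r) :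
    Nonempty (Data pX pY q₁ q₂ δX δY δP v r) := by
  let P' := pullback pX (pW v pY)
  let pr₁ : P' ⟶ X := pullback.fst _ _
  let pr₂ : P' ⟶ Wt v := pullback.snd _ _
  let h : P' ⟶ P := hP.lift pr₁ (pr₂ ≫ jW v) (by rw [Category.assoc]; exact pullback.condition)
  have h₁ : h ≫ q₁ = pr₁ := hP.lift_fst _ _ _
  have h₂ : h ≫ q₂ = pr₂ ≫ jW v := hP.lift_snd _ _ _
  have sqX : IsPullback pr₁ pr₂ pX (pW v pY) := IsPullback.of_hasPullback _ _
  have sq : IsPullback h pr₂ q₂ (jW v) := by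
    refine IsPullback.of_right (t := hP) ?_ h₂
    rw [h₁]
    exact sqX
  haveI : LocallyOfFiniteType q₁ := MorphismProperty.of_isPullback hP.flip (inferInstance : LocallyOfFiniteType pY)
  haveI : LocallyOfFiniteType q₂ := MorphismProperty.of_isPullback hP (inferInstance : LocallyOfFiniteType pX)
  haveI : IsFinite h := MorphismProperty.of_isPullback sq.flip (inferInstance : IsFinite (jW v))
  haveI : Flat pr₁ := MorphismProperty.pullback_fst _ _ (inferInstance : Flat (pW v pY))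
  haveI : LocallyOfFiniteType pr₁ :=
    MorphismProperty.pullback_fst _ _ (inferInstance : LocallyOfFiniteType (pW v pY))
  haveI : LocallyOfFiniteType pr₂ := MorphismProperty.pullback_snd _ _ (inferInstance : LocallyOfFiniteType pX)
  obtain ⟨δ', hδ'⟩ := exists_delta pr₁ δX
  have hXs : Cyc.IsSetup X δX := isSetup_of_lft pX (isSetup_spec_field k) hδX
  have hs : Cyc.IsSetup P' δ' := isSetup_of_lft pr₁ hXs hδ'
  have hrel : Cyc.HasRelDim pr₁ r := fun x => by
    haveI : LocallyOfFiniteType (Y := Spec (CommRingCat.of ((Spec (CommRingCat.of k)).residueField (pX x))))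
        ((pW v pY).fiberToSpecResidueField (pX x)) :=
      MorphismProperty.pullback_snd (P := @LocallyOfFiniteType) _ _ inferInstance
    exact LocDimBC.dim_component_fieldExtension (k := (Spec (CommRingCat.of k)).residueField (pX x))
      (K := X.residueField x)
      (isPullback_fiberToSpecResidueField_of_isPullback sqX.flip x) r (hasRelDim_pW v pY δY hδY hv (pX x))
  have hpr₂ : Cyc.DeltaCompat pr₂ δ' (δW v δY) := by
    have e := Bivar.deltaCompat_comp pr₁ pX δ' δX (fun _ => 0) hδ' hδX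
    rw [sqX.w] at e
    exact deltaCompat_of_comp pr₂ (pW v pY) e (deltaCompat_pW v pY δY hδY)
  exact ⟨⟨P', h, pr₁, pr₂, δ', sq, sqX, h₁, inferInstance, inferInstance, inferInstance, hrel, hs,
    IsShift.of_relDim hs hXs r hrel hδ', hδ', hpr₂, deltaCompat_of_comp h q₁ (by rw [h₁]; exact hδ') hδP⟩⟩

include hP hδX hδY hδP in
/-- Points of a product have dimension at most the sum of the dimensions of their projections. -/
theorem delta_le_add (t : P) : δP t ≤ δX (q₁ t) + δY (q₂ t) := by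
  obtain ⟨s, -, hs⟩ := hδY (q₂ t)
  have hs' : δY (q₂ t) = s := by simpa using hs
  let v := pointCycle (q₂ t) 1
  have hv : v ∈ Cyc.Zk Y δY s := mem_Zk_point _ _ fun _ => hs'
  obtain ⟨D⟩ := exists_data pX pY q₁ q₂ hP δX δY δP hδX hδY hδP v hv
  have hne : v (q₂ t) ≠ 0 := by rw [pointCycle_self]; exact one_ne_zero
  let a : Idx v := ⟨⟨q₂ t, hne⟩, ⟨⟨0, by simp [v, pointCycle_self]⟩⟩⟩
  obtain ⟨t', ht', -, -⟩ := exists_unique_lift v D.sq a t rfl
  have h1 := D.shift.le D.setup.2.2 t'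
  obtain ⟨n, -, h2⟩ := D.compat t'
  rw [ht'] at h2
  have h3 : q₁ t = D.pr₁ t' := by rw [← ht', ← Scheme.Hom.comp_apply, D.w]
  rw [h3, hs']
  omega

open Classical in
include hP hδX hδY hδP in
/-- The exterior product as an image of a flat pullback. -/
theorem map_pullCycle_apply (v : AlgebraicCycle Y ℤ) {r : ℕ} (hv : v ∈ Cyc.Zk Y δY r) (hpos : ∀ y, 0 ≤ v y)
    (D : Data pX pY q₁ q₂ δX δY δP v r) (u : AlgebraicCycle X ℤ) (α₁ : AlgebraicCycle D.P' ℤ)
    (hα₁ : ⇑α₁ = Cyc.pullFun D.pr₁ D.δ' δX (r : ℤ) ⇑u) (t : P) :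
    (haveI := D.fin; AlgebraicCycle.map D.h D.δ' δP α₁ t) =
      if δP t = δX (q₁ t) + δY (q₂ t) then
        u (q₁ t) * v (q₂ t) *
          ((Module.length (P.presheaf.stalk t) (P.presheaf.stalk t ⧸ (fibIdeal q₁ t ⊔ fibIdeal q₂ t))).toNat : ℤ)
      else 0 := by
  haveI := D.fin
  have hsq₂ : ∀ z, jW v (D.pr₂ z) = q₂ (D.h z) := fun z => by
    rw [← Scheme.Hom.comp_apply, ← Scheme.Hom.comp_apply, D.sq.w]
  have hsq₁ : ∀ z, D.pr₁ z = q₁ (D.h z) := fun z => by rw [← Scheme.Hom.comp_apply, D.w]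
  have hY : Cyc.IsSetup Y δY := isSetup_of_lft pY (isSetup_spec_field k) hδY
  rw [AlgebraicCycle.map, Function.locallyFinsupp.map_apply]
  have key : ∀ z, D.h z = t → α₁ z * (AlgebraicCycle.mapCoeff D.h D.δ' δP z : ℤ) ≠ 0 →
      δP t = δX (q₁ t) + δY (q₂ t) ∧ δY (q₂ t) = r ∧ ∃ a : Idx v, D.pr₂ z = pt v a ∧ a.1.1 = q₂ t := by
    intro z hz hne
    have h1 := left_ne_zero_of_mul hne
    rw [hα₁, pullFun_apply] at h1
    split_ifs at h1 with e1
    swap
    · exact absurd rfl h1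
    have h2 := right_ne_zero_of_mul hne
    rw [AlgebraicCycle.mapCoeff] at h2
    split_ifs at h2 with e2
    swap
    · exact absurd rfl h2
    change D.δ' z = δP (D.h z) at e2
    rw [hsq₁, hz] at e1
    rw [hz] at e2
    have h3 := delta_le_add pX pY q₁ q₂ hP δX δY δP hδX hδY hδP t
    obtain ⟨h4, h5⟩ := delta_le v pY δY hδY hv (D.pr₂ z)
    have h6 : δW v δY (D.pr₂ z) = δY (q₂ t) := by rw [δW, hsq₂, hz]
    obtain ⟨a, ha⟩ := h5 (by omega)
    exact ⟨by omega, by omega, a, ha.symm, by rw [← jW_pt v a, ha, hsq₂, hz]⟩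
  by_cases hδ : δP t = δX (q₁ t) + δY (q₂ t)
  swap
  · rw [if_neg hδ]
    exact finsum_mem_eq_zero_of_forall_eq_zero fun z hz => by
      by_contra h
      exact hδ (key z hz h).1
  rw [if_pos hδ]
  by_cases hy : v (q₂ t) = 0
  · rw [hy, mul_zero, zero_mul]
    refine finsum_mem_eq_zero_of_forall_eq_zero fun z hz => ?_
    by_contra h
    obtain ⟨-, -, a, -, ha⟩ := key z hz h
    exact a.1.2 (ha.symm ▸ hy)
  have hr : δY (q₂ t) = r := by_contra fun h => hy (hv _ h)
  let idx : Fin (v (q₂ t)).toNat → Idx v := fun i => ⟨⟨q₂ t, hy⟩, ⟨i⟩⟩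
  choose g hg₁ hg₂ hg₃ hg₄ hg₅ hg₆ using fun i => exists_unique_lift v D.sq (idx i) t rfl
  have hginj : Function.Injective g := fun i j hij => by
    have h1 : idx i = idx j := pt_injective v (by rw [← hg₂, ← hg₂, hij])
    exact ULift.up.inj (eq_of_heq (Sigma.mk.inj_iff.1 h1).2)
  rw [finsum_mem_inter_support_eq (t := Set.range g), finsum_mem_range hginj, finsum_eq_sum_of_fintype]
  · have hterm : ∀ i, α₁ (g i) * (AlgebraicCycle.mapCoeff D.h D.δ' δP (g i) : ℤ) = u (q₁ t) *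
        ((Module.length (P.presheaf.stalk t) (P.presheaf.stalk t ⧸ (fibIdeal q₁ t ⊔ fibIdeal q₂ t))).toNat : ℤ) := by
      intro i
      have e₀ := hg₁ i
      obtain ⟨n, -, e1⟩ := D.compat (g i)
      have e2 := D.shift.le D.setup.2.2 (g i)
      rw [hsq₁, e₀] at e2
      rw [e₀] at e1
      obtain ⟨m, -, e3⟩ := D.compat₂ (g i)
      rw [hg₂, delta_pt v δY hv] at e3
      obtain ⟨n', hn', e1'⟩ := D.compat (g i)
      obtain rfl : n' = 0 := by
        have h1 : (n' : Cardinal.{u}) = 0 := hn'.symm.trans (InsepLenLib.resTrdegAt_eq_zero_of_integral D.h (g i))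
        exact_mod_cast h1
      rw [e₀] at e1'
      have e4 : D.δ' (g i) = δP t := by omega
      rw [hα₁, pullFun_apply, if_pos (by rw [hsq₁, e₀]; omega), AlgebraicCycle.mapCoeff,
        if_pos (show D.δ' (g i) = δP (D.h (g i)) by rw [e₀]; exact e4), hg₄, Nat.cast_one, mul_one, hsq₁, e₀,
        length_fib_comp_surjective D.h q₁ D.pr₁ D.w (g i) (hg₅ i), hg₆]
      have : ∀ w, w = t → Module.length (P.presheaf.stalk w) (P.presheaf.stalk w ⧸ (fibIdeal q₁ w ⊔ fibIdeal q₂ w)) =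
          Module.length (P.presheaf.stalk t) (P.presheaf.stalk t ⧸ (fibIdeal q₁ t ⊔ fibIdeal q₂ t)) := by
        rintro _ rfl
        rfl
      rw [this _ e₀]
    rw [Finset.sum_congr rfl fun i _ => hterm i, Finset.sum_const, Finset.card_univ, Fintype.card_fin, nsmul_eq_mul,
      Int.toNat_of_nonneg (hpos _)]
    ring
  · ext z
    refine ⟨fun ⟨hz, hne⟩ => ⟨?_, hne⟩, fun ⟨⟨i, hi⟩, hne⟩ => ⟨?_, hne⟩⟩
    · obtain ⟨-, -, ⟨⟨y', hy'⟩, ⟨i⟩⟩, ha₁, ha₂⟩ := key z hz hne
      obtain rfl : y' = q₂ t := ha₂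
      exact ⟨i, (hg₃ i z hz ha₁).symm⟩
    · rw [← hi]
      exact hg₁ i

end Groth.Agent.CrossLib
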