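import Groth.Agent.BivarLib.PrimeTest
import Groth.Agent.CycLib.FieldSetup
import Groth.Agent.CurveLib.Euler
import Groth.Agent.WeilCohLib.Geom
import Groth.Agent.ASp.OnePoint

/-!
# An effective cycle as the image of the fundamental cycle of a scheme
-/

set_option autoImplicit false
set_option backward.isDefEq.respectTransparency false
set_option linter.style.haveILetI false
set_option linter.unusedSectionVars false

universe u

open CategoryTheory CategoryTheory.Limits AlgebraicGeometry TopologicalSpace

noncomputable section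

namespace Groth.Agent.CrossLib

open CycLib BivarLib

variable {Y : Scheme.{u}} (v : AlgebraicCycle Y ℤ)

/-- The copies of the prime cycles of an effective cycle. -/
abbrev Idx : Type u := Σ y : {y : Y // v y ≠ 0}, ULift.{u} (Fin (v y.1).toNat)

/-- A prime cycle of the family, with its reduced structure. -/
def comp (a : Idx v) : Scheme.{u} :=
  (Scheme.IdealSheafData.vanishingIdeal (⟨closure {a.1.1}, isClosed_closure⟩ : Closeds Y)).subscheme

/-- The inclusion of a prime cycle. -/
def compι (a : Idx v) : comp v a ⟶ Y :=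
  (Scheme.IdealSheafData.vanishingIdeal (⟨closure {a.1.1}, isClosed_closure⟩ : Closeds Y)).subschemeι

instance (a : Idx v) : IsClosedImmersion (compι v a) :=
  inferInstanceAs (IsClosedImmersion (Scheme.IdealSheafData.vanishingIdeal _).subschemeι)

instance (a : Idx v) : IsIntegral (comp v a) :=
  CurveLib.isIntegral_vanishingIdeal isClosed_closure isIrreducible_singleton.closure

/-- The disjoint union of the prime cycles. -/
def Wt : Scheme.{u} := ∐ comp v

/-- The inclusion of a component. -/
def incl (a : Idx v) : comp v a ⟶ Wt v := Sigma.ι (comp v) a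

instance (a : Idx v) : IsOpenImmersion (incl v a) := inferInstanceAs (IsOpenImmersion (Sigma.ι (comp v) a))

/-- The map to the ambient scheme. -/
def jW : Wt v ⟶ Y := Sigma.desc (compι v)

theorem incl_jW (a : Idx v) : incl v a ≫ jW v = compι v a := Sigma.ι_desc _ _

theorem range_compι (a : Idx v) : Set.range (compι v a) = closure {a.1.1} :=
  (Scheme.IdealSheafData.range_subschemeι _).trans (Scheme.IdealSheafData.coe_support_vanishingIdeal _)

theorem compι_generic (a : Idx v) : compι v a (genericPoint (comp v a)) = a.1.1 := by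
  refine ((genericPoint_spec (comp v a)).image (compι v a).continuous).eq ?_
  rw [Set.image_univ, range_compι, closure_closure]
  exact isGenericPoint_closure

theorem exists_incl (w : Wt v) : ∃ (a : Idx v) (z : comp v a), incl v a z = w := by
  obtain ⟨⟨a, z⟩, hz⟩ := (sigmaMk (comp v)).surjective w
  exact ⟨a, z, (sigmaMk_mk (comp v) a z).symm.trans hz⟩

/-- The generic point of a component. -/
def pt (a : Idx v) : Wt v := incl v a (genericPoint (comp v a))

theorem jW_pt (a : Idx v) : jW v (pt v a) = a.1.1 := by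
  rw [pt, ← Scheme.Hom.comp_apply, incl_jW, compι_generic]

theorem incl_inj {a b : Idx v} {x : comp v a} {y : comp v b} (h : incl v a x = incl v b y) : a = b :=
  congrArg Sigma.fst ((sigmaι_eq_iff (comp v) _ _ _ _).1 h)

theorem pt_injective : Function.Injective (pt v) := fun _ _ h => incl_inj v h

instance isFinite_jW : IsFinite (jW v) := by
  refine isFinite_sigmaDesc_closed (comp v) (compι v) fun U hU => ?_
  have hfin := v.locallyFiniteSupport.finite_inter_support_of_isCompact hU.isCompact
  haveI : Finite ↥({a : {y : Y // v y ≠ 0} | a.1 ∈ U}) :=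
    ((hfin.preimage (f := fun a : {y : Y // v y ≠ 0} => a.1) Subtype.val_injective.injOn).subset
      fun a ha => ⟨ha, a.2⟩).to_subtype
  refine Set.Finite.subset (Set.finite_range fun b : Σ a : ↥({a : {y : Y // v y ≠ 0} | a.1 ∈ U}),
      ULift.{u} (Fin (v a.1.1).toNat) => (⟨b.1.1, b.2⟩ : Idx v)) ?_
  rintro ⟨a, i⟩ ⟨y, hy, hyU⟩
  rw [range_compι] at hy
  exact ⟨⟨⟨a, (specializes_iff_mem_closure.2 hy).mem_open U.2 hyU⟩, i⟩, rfl⟩

variable {k : Type u} [Field k] (pY : Y ⟶ Spec (CommRingCat.of k)) [LocallyOfFiniteType pY]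

/-- The structure map of the family. -/
def pW : Wt v ⟶ Spec (CommRingCat.of k) := jW v ≫ pY

instance : LocallyOfFiniteType (pW v pY) := inferInstanceAs (LocallyOfFiniteType (jW v ≫ pY))

instance : Flat (pW v pY) := ASp.flat_of_isField_stalk _ fun s => (DimFormulaLib.isField_stalk k s).1

variable (δY : Y → ℤ)

/-- The dimension function on the family. -/
def δW (w : Wt v) : ℤ := δY (jW v w)

theorem deltaCompat_jW : Cyc.DeltaCompat (jW v) (δW v δY) δY := fun w => by
  obtain ⟨a, z, rfl⟩ := exists_incl v w
  refine ⟨0, ?_, by simp [δW]⟩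
  have h := FlatDim.resTrdegAt_congr (incl_jW v a) z
  rw [FlatDim.resTrdegAt_comp, FlatDim.resTrdegAt_preimmersion (incl v a), FlatDim.resTrdegAt_preimmersion (compι v a), add_zero] at h
  rw [Nat.cast_zero]
  exact h

variable (hδY : Cyc.DeltaCompat pY δY (fun _ => 0)) {r : ℕ} (hv : v ∈ Cyc.Zk Y δY r)

include hδY in
theorem deltaCompat_pW : Cyc.DeltaCompat (pW v pY) (δW v δY) (fun _ => 0) :=
  Bivar.deltaCompat_comp (jW v) pY _ δY _ (deltaCompat_jW v δY) hδY

include hδY in
theorem isSetup_Y : Cyc.IsSetup Y δY :=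
  isSetup_of_lft pY (isSetup_spec_field k) hδY

include hv in
theorem delta_pt (a : Idx v) : δW v δY (pt v a) = r := by
  by_contra hne
  rw [δW, jW_pt] at hne
  exact a.1.2 (hv _ hne)

include hδY hv in
/-- The points of the family have dimension at most `r`, with equality exactly at the generic points. -/
theorem delta_le (w : Wt v) : δW v δY w ≤ r ∧ (δW v δY w = r → ∃ a, pt v a = w) := by
  obtain ⟨a, z, rfl⟩ := exists_incl v w
  have hδ := (isSetup_Y pY δY hδY).2.2
  rcases eq_or_ne (genericPoint (comp v a)) z with rfl | hne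
  · exact ⟨(delta_pt v δY hv a).le, fun _ => ⟨a, rfl⟩⟩
  · have hlt := (hδ _ _ ((genericPoint_specializes z).map (compι v a).continuous)
      ((compι v a).isEmbedding.injective.ne hne)).1
    rw [compι_generic] at hlt
    have hp := delta_pt v δY hv a
    rw [δW, jW_pt] at hp
    have he : δW v δY (incl v a z) = δY (compι v a z) := by
      rw [δW, ← Scheme.Hom.comp_apply, incl_jW]
    rw [he]
    exact ⟨by omega, fun h => absurd h (by omega)⟩

include hδY hv in
theorem isShift_pW : IsShift (pW v pY) (δW v δY) (fun _ => 0) r := by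
  intro w hw
  rw [zero_add]
  obtain ⟨a, z, rfl⟩ := exists_incl v w
  have h : pt v a = incl v a z := hw (pt v a) (Subsingleton.elim _ _)
    ((genericPoint_specializes z).map (incl v a).continuous)
  rw [← h]
  exact delta_pt v δY hv a

include hδY hv in
theorem hasRelDim_pW : Cyc.HasRelDim (pW v pY) r :=
  hasRelDim_of_isShift (isShift_pW v pY δY hδY hv) (deltaCompat_pW v pY δY hδY)

include hδY hv in
/-- The generic points of the components. -/
theorem exists_fund : ∃ e : AlgebraicCycle (Wt v) ℤ, e ∈ Cyc.Zk (Wt v) (δW v δY) r ∧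
    ∀ w, e w = if δW v δY w = r then 1 else 0 := by
  refine ⟨{
    toFun := fun w => if δW v δY w = r then 1 else 0
    supportWithinDomain' := Set.subset_univ _
    supportLocallyFiniteWithinDomain' := fun w _ => ?_ }, fun w hw => if_neg hw, fun w => rfl⟩
  obtain ⟨a, z, rfl⟩ := exists_incl v w
  refine ⟨Set.range (incl v a), (incl v a).isOpenEmbedding.isOpen_range.mem_nhds ⟨z, rfl⟩,
    (Set.finite_singleton (pt v a)).subset ?_⟩
  rintro _ ⟨⟨z', rfl⟩, hne⟩
  have hr : δW v δY (incl v a z') = r := by
    by_contra h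
    exact hne (if_neg h)
  obtain ⟨b, hb⟩ := (delta_le v pY δY hδY hv _).2 hr
  rw [← hb, show b = a from incl_inj v hb]
  rfl

theorem residueDegree_pt (a : Idx v) : (jW v).residueDegree (pt v a) = 1 := by
  refine WeilCohLib.residueDegree_eq_one_of_surjective _ _ fun b => ?_
  have h1 : ∀ f : comp v a ⟶ Y, f = compι v a → Function.Surjective (f.residueFieldMap (genericPoint (comp v a))).hom := by
    rintro _ rfl
    exact (bijective_residueFieldMap (compι v a) _).2
  have h2 := h1 _ (incl_jW v a)
  rw [Scheme.residueFieldMap_comp] at h2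
  obtain ⟨c, hc⟩ := h2 (((incl v a).residueFieldMap (genericPoint (comp v a))).hom b)
  exact ⟨c, ((incl v a).residueFieldMap (genericPoint (comp v a))).hom.injective hc⟩

include hδY hv in
/-- An effective cycle is the image of the fundamental cycle. -/
theorem map_fund (hpos : ∀ y, 0 ≤ v y) (e : AlgebraicCycle (Wt v) ℤ)
    (he : ∀ w, e w = if δW v δY w = r then 1 else 0) : AlgebraicCycle.map (jW v) (δW v δY) δY e = v := by
  classical
  refine Function.locallyFinsuppWithin.ext fun y => ?_
  rw [AlgebraicCycle.map, Function.locallyFinsupp.map_apply]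
  have key : ∀ w, jW v w = y → e w * (AlgebraicCycle.mapCoeff (jW v) (δW v δY) δY w : ℤ) ≠ 0 →
      ∃ a, pt v a = w ∧ a.1.1 = y := fun w hw h => by
    have hr : δW v δY w = r := by
      by_contra hr
      rw [he, if_neg hr, zero_mul] at h
      exact h rfl
    obtain ⟨a, rfl⟩ := (delta_le v pY δY hδY hv w).2 hr
    exact ⟨a, rfl, (jW_pt v a).symm.trans hw⟩
  by_cases hy : v y = 0
  · rw [hy]
    refine finsum_mem_eq_zero_of_forall_eq_zero fun w hw => ?_
    by_contra h
    obtain ⟨a, -, ha⟩ := key w hw h
    exact a.1.2 (ha.symm ▸ hy)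
  let g : Fin (v y).toNat → Wt v := fun i => pt v ⟨⟨y, hy⟩, ⟨i⟩⟩
  have hg : Function.Injective g := fun i j hij => by
    have := pt_injective v hij
    exact ULift.up.inj (eq_of_heq (Sigma.mk.inj_iff.1 this).2)
  rw [finsum_mem_inter_support_eq (t := Set.range g), finsum_mem_range hg, finsum_eq_sum_of_fintype]
  · have h1 : ∀ i, e (g i) * (AlgebraicCycle.mapCoeff (jW v) (δW v δY) δY (g i) : ℤ) = 1 := fun i => by
      rw [he, if_pos (delta_pt v δY hv _), AlgebraicCycle.mapCoeff, if_pos (show δW v δY (g i) = δY (jW v (g i)) from rfl), residueDegree_pt]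
      simp
    rw [Finset.sum_congr rfl fun i _ => h1 i]
    simpa using (Int.toNat_of_nonneg (hpos y))
  · ext w
    refine ⟨fun ⟨hw, hne⟩ => ⟨?_, hne⟩, fun ⟨⟨i, hi⟩, hne⟩ => ⟨?_, hne⟩⟩
    · obtain ⟨⟨⟨y', hy'⟩, ⟨i⟩⟩, rfl, rfl⟩ := key w hw hne
      exact ⟨i, rfl⟩
    · rw [← hi]
      exact jW_pt v _

end Groth.Agent.CrossLib
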