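import Groth.Agent.CrossLib.Op

/-!
# Exterior products with signed cycles
-/

set_option autoImplicit false
set_option backward.isDefEq.respectTransparency false
set_option linter.style.haveILetI false
set_option linter.unusedSectionVars false

universe u

open CategoryTheory CategoryTheory.Limits AlgebraicGeometry TopologicalSpace

noncomputable section

namespace Groth.Agent.CrossLib

open CycLib BivarLib

/-- The positive part of a cycle. -/
def posCycle {Y : Scheme.{u}} (v : AlgebraicCycle Y ℤ) : AlgebraicCycle Y ℤ where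
  toFun y := max (v y) 0
  supportWithinDomain' := Set.subset_univ _
  supportLocallyFiniteWithinDomain' y _ := by
    obtain ⟨t, ht, hfin⟩ := v.supportLocallyFiniteWithinDomain' y (Set.mem_univ _)
    refine ⟨t, ht, hfin.subset ?_⟩
    rintro z ⟨hz, hne⟩
    exact ⟨hz, fun h => hne (by show max (v z) 0 = 0; rw [show v z = 0 from h, max_self])⟩

@[simp] theorem posCycle_apply {Y : Scheme.{u}} (v : AlgebraicCycle Y ℤ) (y : Y) : posCycle v y = max (v y) 0 := rfl

variable {k : Type u} [Field k] {X Y P : Scheme.{u}} (pX : X ⟶ Spec (CommRingCat.of k))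
  (pY : Y ⟶ Spec (CommRingCat.of k)) [IsProper pX] [LocallyOfFiniteType pY]
  (q₁ : P ⟶ X) (q₂ : P ⟶ Y) (hP : IsPullback q₁ q₂ pX pY)
  (δX : X → ℤ) (δY : Y → ℤ) (δP : P → ℤ)
  (hδX : Cyc.DeltaCompat pX δX (fun _ => 0)) (hδY : Cyc.DeltaCompat pY δY (fun _ => 0))
  (hδP : Cyc.DeltaCompat q₁ δP δX) [IsProper q₂] [LocallyOfFiniteType q₁]
  (hX : Cyc.IsSetup X δX) (hY : Cyc.IsSetup Y δY) (hPs : Cyc.IsSetup P δP) (hq₂ : Cyc.DeltaCompat q₂ δP δY)

include hP hδX hδY hδP hX hY hPs hq₂ in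
open Classical in
/-- An operational class capped with an exterior product and pushed to the second factor. -/
theorem op_cross {p : ℤ} (c : Bivar.OpCl p X δX) {a m : ℤ} (u : AlgebraicCycle X ℤ) (hu : u ∈ Cyc.Zk X δX a)
    (β : AlgebraicCycle X ℤ) (hβ : β ∈ Cyc.Zk X δX (a - p))
    (hcβ : c.cap a (ChowOps.cl u hu) = ChowOps.cl β hβ)
    (v : AlgebraicCycle Y ℤ) (hv : v ∈ Cyc.Zk Y δY (m - a)) (ζ : AlgebraicCycle P ℤ) (hζ : ζ ∈ Cyc.Zk P δP m)
    (hζe : ∀ t, ζ t = if δP t = δX (q₁ t) + δY (q₂ t) then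
        u (q₁ t) * v (q₂ t) *
          ((Module.length (P.presheaf.stalk t) (P.presheaf.stalk t ⧸ (fibIdeal q₁ t ⊔ fibIdeal q₂ t))).toNat : ℤ)
        else 0) :
    ∃ H : ChowOps.deg pX δX β • v ∈ Cyc.Zk Y δY (m - p),
      pushCH q₂ hPs hY hq₂ (m - p) (c.op ⟨P, q₁, inferInstance, δP, hδP⟩ m (ChowOps.cl ζ hζ)) =
        ChowOps.cl (ChowOps.deg pX δX β • v) H := by
  rcases lt_or_ge (m - a) 0 with hneg | hnn
  · have hv0 : v = 0 := Function.locallyFinsuppWithin.ext fun y => by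
      by_contra hy
      obtain ⟨n, -, hn⟩ := hδY y
      exact hy (hv y (by simp at hn; omega))
    have hζ0 : ζ = 0 := Function.locallyFinsuppWithin.ext fun t => by
      rw [hζe, hv0]
      split_ifs <;> simp
    subst hv0 hζ0
    refine ⟨by rw [smul_zero]; exact (ChowOps.zk _ _ _).zero_mem, ?_⟩
    rw [show ChowOps.cl (0 : AlgebraicCycle P ℤ) hζ = 0 from rfl, map_zero, map_zero]
    exact (Bivar.cl_congr (smul_zero _) _ (ChowOps.zk _ _ _).zero_mem).symm
  · obtain ⟨r, hr⟩ : ∃ r : ℕ, (r : ℤ) = m - a := ⟨(m - a).toNat, Int.toNat_of_nonneg hnn⟩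
    obtain rfl : m = a + r := by omega
    rw [← hr] at hv
    have hp : posCycle v ∈ Cyc.Zk Y δY r := fun y hy => by rw [posCycle_apply, hv y hy, max_self]
    have hn : posCycle (-v) ∈ Cyc.Zk Y δY r := fun y hy => by
      show max (-(v y)) 0 = 0
      rw [hv y hy, neg_zero, max_self]
    obtain ⟨ζp, hζp, ep, Hp, gp⟩ := exists_cross pX pY q₁ q₂ hP δX δY δP hδX hδY hδP hX hY hPs hq₂ c u hu β hβ hcβ
      (posCycle v) hp (fun y => le_max_right _ _)
    obtain ⟨ζn, hζn, en, Hn, gn⟩ := exists_cross pX pY q₁ q₂ hP δX δY δP hδX hδY hδP hX hY hPs hq₂ c u hu β hβ hcβ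
      (posCycle (-v)) hn (fun y => le_max_right _ _)
    have hpn : ∀ y, posCycle v y - posCycle (-v) y = v y := fun y => by
      show max (v y) 0 - max (-(v y)) 0 = v y
      omega
    have hvd : ChowOps.deg pX δX β • v =
        ChowOps.deg pX δX β • posCycle v - ChowOps.deg pX δX β • posCycle (-v) := by
      rw [← smul_sub]
      exact congrArg _ (Function.locallyFinsuppWithin.ext fun y => (hpn y).symm)
    have hζd : ζ = ζp - ζn := Function.locallyFinsuppWithin.ext fun t => by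
      show ζ t = ζp t - ζn t
      rw [hζe, ep, en, ← hpn]
      split_ifs
      · ring
      · ring
    refine ⟨hvd ▸ (ChowOps.zk _ _ _).sub_mem Hp Hn, ?_⟩
    rw [Bivar.cl_congr hζd hζ ((ChowOps.zk _ _ _).sub_mem hζp hζn), cl_sub hζp hζn, map_sub, map_sub, gp, gn,
      ← cl_sub Hp Hn]
    exact (Bivar.cl_congr hvd _ _).symm

end Groth.Agent.CrossLib
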