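import Groth.Agent.CrossLib.Product
import Groth.Agent.BivarLib.Chern

/-!
# An operational class on an exterior product, pushed to the second factor
-/

set_option autoImplicit false
set_option backward.isDefEq.respectTransparency false
set_option linter.style.haveILetI false
set_option linter.unusedSectionVars false

universe u

open CategoryTheory CategoryTheory.Limits AlgebraicGeometry TopologicalSpace

noncomputable section

namespace Groth.Agent.CrossLib

open CycLib BivarLib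

/-- Proper push forward as a homomorphism of cycles. -/
def mapHom {A B : Scheme.{u}} (f : A ⟶ B) [QuasiCompact f] (δA : A → ℤ) (δB : B → ℤ) :
    AlgebraicCycle A ℤ →+ AlgebraicCycle B ℤ :=
  AddMonoidHom.mk' (AlgebraicCycle.map f δA δB) (Bivar.cycMap_add f δA δB)

/-- The degree of a cycle is its image at any point of the base. -/
theorem map_toSpec_eq_deg {k : Type u} [Field k] {X : Scheme.{u}} (pX : X ⟶ Spec (CommRingCat.of k)) [QuasiCompact pX]
    (δX : X → ℤ) (β : AlgebraicCycle X ℤ) (s : Spec (CommRingCat.of k)) :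
    AlgebraicCycle.map pX δX (fun _ => 0) β s = ChowOps.deg pX δX β := by
  rw [Subsingleton.elim s (IsLocalRing.closedPoint k)]
  rfl

/-- Cycles of nonzero degree have dimension zero. -/
theorem deg_eq_zero {k : Type u} [Field k] {X : Scheme.{u}} (pX : X ⟶ Spec (CommRingCat.of k)) [QuasiCompact pX]
    {δX : X → ℤ} {l : ℤ} {β : AlgebraicCycle X ℤ} (hβ : β ∈ Cyc.Zk X δX l) (hl : l ≠ 0) :
    ChowOps.deg pX δX β = 0 :=
  Bivar.cycMap_mem_Zk pX δX (fun _ => (0 : ℤ)) l hβ _ fun h => hl h.symm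

variable {k : Type u} [Field k] {X Y P : Scheme.{u}} (pX : X ⟶ Spec (CommRingCat.of k))
  (pY : Y ⟶ Spec (CommRingCat.of k)) [IsProper pX] [LocallyOfFiniteType pY]
  (q₁ : P ⟶ X) (q₂ : P ⟶ Y) (hP : IsPullback q₁ q₂ pX pY)
  (δX : X → ℤ) (δY : Y → ℤ) (δP : P → ℤ)
  (hδX : Cyc.DeltaCompat pX δX (fun _ => 0)) (hδY : Cyc.DeltaCompat pY δY (fun _ => 0))
  (hδP : Cyc.DeltaCompat q₁ δP δX) [IsProper q₂] [LocallyOfFiniteType q₁]
  (hX : Cyc.IsSetup X δX) (hY : Cyc.IsSetup Y δY) (hPs : Cyc.IsSetup P δP) (hq₂ : Cyc.DeltaCompat q₂ δP δY)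

include hP hδX hδY hδP hX hY hPs hq₂ in
open Classical in
/-- The exterior product of `u` with an effective cycle `v`, and its image under an operational class. -/
theorem exists_cross {p : ℤ} (c : Bivar.OpCl p X δX) {a : ℤ} (u : AlgebraicCycle X ℤ) (hu : u ∈ Cyc.Zk X δX a)
    (β : AlgebraicCycle X ℤ) (hβ : β ∈ Cyc.Zk X δX (a - p))
    (hcβ : c.cap a (ChowOps.cl u hu) = ChowOps.cl β hβ)
    (v : AlgebraicCycle Y ℤ) {r : ℕ} (hv : v ∈ Cyc.Zk Y δY r) (hpos : ∀ y, 0 ≤ v y) :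
    ∃ (ζ : AlgebraicCycle P ℤ) (hζ : ζ ∈ Cyc.Zk P δP (a + r)),
      (∀ t, ζ t = if δP t = δX (q₁ t) + δY (q₂ t) then
        u (q₁ t) * v (q₂ t) *
          ((Module.length (P.presheaf.stalk t) (P.presheaf.stalk t ⧸ (fibIdeal q₁ t ⊔ fibIdeal q₂ t))).toNat : ℤ)
        else 0) ∧
      ∃ H : ChowOps.deg pX δX β • v ∈ Cyc.Zk Y δY (a + r - p),
        pushCH q₂ hPs hY hq₂ (a + r - p) (c.op ⟨P, q₁, inferInstance, δP, hδP⟩ (a + r) (ChowOps.cl ζ hζ)) =
          ChowOps.cl (ChowOps.deg pX δX β • v) H := by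
  obtain ⟨D⟩ := exists_data pX pY q₁ q₂ hP δX δY δP hδX hδY hδP v hv
  haveI := D.fin
  haveI := D.flat
  haveI := D.lft
  haveI := D.setup.1
  haveI := hX.1
  haveI := hY.1
  haveI := hPs.1
  let sP : Bivar.OSq X δX := ⟨P, q₁, inferInstance, δP, hδP⟩
  let sD : Bivar.OSq X δX := ⟨D.P', D.pr₁, inferInstance, D.δ', D.compat₁⟩
  let pull := pullHom D.shift D.setup.2.2
  have hpull : ∀ (γ : AlgebraicCycle X ℤ), ⇑(pull γ) = Cyc.pullFun D.pr₁ D.δ' δX (r : ℤ) ⇑γ := fun γ => rfl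
  have hpullk : ∀ (l : ℤ) (γ : AlgebraicCycle X ℤ), γ ∈ Cyc.Zk X δX l → pull γ ∈ Cyc.Zk D.P' D.δ' (l + r) := by
    intro l γ hγ z hz
    rw [hpull, pullFun_apply]
    split_ifs with e
    · rw [hγ _ (fun h => hz (by omega)), zero_mul]
    · rfl
  have hα₁ := hpullk a u hu
  have hβ₁ : pull β ∈ Cyc.Zk D.P' D.δ' (a + r - p) := by
    have := hpullk (a - p) β hβ
    rwa [show a - p + (r : ℤ) = a + r - p by ring] at this
  -- the class upstairs
  obtain ⟨β', hβ', e₁, H⟩ := c.pull (Bivar.OSq.self X δX) sD D.pr₁ r D.relDim (Category.comp_id _) a u hu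
  obtain ⟨β₁', hβ₁', hb', e₂⟩ := H (pull u) (hpull u) hα₁
  have e₃ : c.op sD (a + r) (ChowOps.cl (pull u) hα₁) = ChowOps.cl (pull β) hβ₁ := by
    rw [e₂]
    refine cl_eq_of_ratEquiv _ _ ?_
    have h0 : Cyc.RatEquivZero δX (a - p) (β' - β) := ratEquiv_of_cl_eq hX.2.2 (e₁.symm.trans hcβ)
    show Cyc.RatEquivZero D.δ' (a + r - p) (β₁' - pull β)
    rw [show a + (r : ℤ) - p = a - p + r by ring, show β₁' = pull β' from DFunLike.coe_injective hb', ← map_sub]
    exact ratEquivZero_pull D.shift D.setup.2.2 hX.2.2 h0 _ rfl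
  -- push to the product
  obtain ⟨γ, hγ, g₁, g₂⟩ := c.push sP sD D.h D.w (a + r) (pull u) hα₁
  have e₄ : c.op sP (a + r) (ChowOps.cl (AlgebraicCycle.map D.h D.δ' δP (pull u)) (Bivar.cycMap_mem_Zk _ _ _ _ hα₁)) =
      pushCH D.h D.setup hPs D.compat (a + r - p) (ChowOps.cl (pull β) hβ₁) := by
    rw [← e₃, g₁, pushCH_cl]
    exact g₂
  refine ⟨AlgebraicCycle.map D.h D.δ' δP (pull u), Bivar.cycMap_mem_Zk _ _ _ _ hα₁,
    map_pullCycle_apply pX pY q₁ q₂ hP δX δY δP hδX hδY hδP v hv hpos D u (pull u) (hpull u), ?_⟩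
  -- push to the second factor
  have hW : Cyc.IsSetup (Wt v) (δW v δY) := isSetup_of_lft (jW v) hY (deltaCompat_jW v δY)
  haveI := hW.1
  haveI : IsProper D.pr₂ := MorphismProperty.of_isPullback D.sqX (inferInstance : IsProper pX)
  obtain ⟨e, he, hee⟩ := exists_fund v pY δY hδY hv
  have hmapβ : AlgebraicCycle.map D.pr₂ D.δ' (δW v δY) (pull β) = ChowOps.deg pX δX β • e := by
    refine DFunLike.coe_injective ?_
    rw [map_pullFun D.sqX hW.2.2 D.setup.2.2 hδX D.compat₂ (isShift_pW v pY δY hδY hv) D.shift β (pull β) (hpull β)]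
    funext w
    rw [pullFun_apply, map_toSpec_eq_deg, zero_add]
    show _ = ChowOps.deg pX δX β * e w
    rw [hee]
    split_ifs with hw
    · obtain ⟨b, rfl⟩ := (delta_le v pY δY hδY hv w).2 hw
      rw [mul_one]
      have hF : IsField ((Wt v).presheaf.stalk (pt v b)) :=
        MulEquiv.isField (Field.toIsField (comp v b).functionField)
          (asIso ((incl v b).stalkMap (genericPoint (comp v b)))).commRingCatIsoToRingEquiv.toMulEquiv
      letI := hF.toField
      have hbot : fibIdeal (pW v pY) (pt v b) = ⊥ := by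
        rcases Ideal.eq_bot_or_top (fibIdeal (pW v pY) (pt v b)) with h | h
        · exact h
        · exact absurd h (ne_top_of_le_ne_top (IsLocalRing.maximalIdeal.isMaximal _).ne_top (fibIdeal_le _ _))
      rw [(Submodule.quotEquivOfEqBot _ hbot).length_eq, Module.length_eq_rank, Module.rank_self]
      simp
    · rw [mul_zero]
  have hqh : AlgebraicCycle.map q₂ δP δY (AlgebraicCycle.map D.h D.δ' δP (pull β)) = ChowOps.deg pX δX β • v := by
    rw [S1859.result D.P' P Y D.δ' δP δY D.setup hPs hY D.h q₂ D.compat hq₂ (a + r - p) (pull β) hβ₁]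
    have hcongr : ∀ (g : D.P' ⟶ Y) [QuasiCompact g], g = D.pr₂ ≫ jW v →
        AlgebraicCycle.map g D.δ' δY (pull β) = AlgebraicCycle.map (D.pr₂ ≫ jW v) D.δ' δY (pull β) := by
      intro g _ hg
      subst hg
      rfl
    rw [hcongr _ D.sq.w, ← S1859.result D.P' (Wt v) Y D.δ' (δW v δY) δY D.setup hW hY D.pr₂ (jW v) D.compat₂
      (deltaCompat_jW v δY) (a + r - p) (pull β) hβ₁, hmapβ]
    show mapHom (jW v) (δW v δY) δY (ChowOps.deg pX δX β • e) = _
    rw [map_zsmul]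
    exact congrArg _ (map_fund v pY δY hδY hv hpos e hee)
  refine ⟨hqh ▸ Bivar.cycMap_mem_Zk _ _ _ _ (Bivar.cycMap_mem_Zk _ _ _ _ hβ₁), ?_⟩
  show pushCH q₂ hPs hY hq₂ (a + r - p) (c.op sP (a + r) _) = _
  rw [e₄, pushCH_cl, pushCH_cl]
  exact Bivar.cl_congr hqh _ _

end Groth.Agent.CrossLib
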