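import Groth.Agent.CrossLib.Family
import Groth.Agent.CycLib.ClosedPull
import Groth.Agent.CycLib.PushPull
import Groth.Agent.LocDimBC.Comp

/-!
# The base change of a family of prime cycles to a product
-/

set_option autoImplicit false
set_option backward.isDefEq.respectTransparency false
set_option linter.style.haveILetI false
set_option linter.unusedSectionVars false

universe u

open CategoryTheory CategoryTheory.Limits AlgebraicGeometry TopologicalSpace

noncomputable section

namespace Groth.Agent.CrossLib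

open CycLib BivarLib

/-- The maximal ideal along an equality of points. -/
theorem map_maximalIdeal_specializes {Y : Scheme.{u}} {a b : Y} (h : a = b) (e : a ⤳ b) :
    (IsLocalRing.maximalIdeal (Y.presheaf.stalk b)).map (Y.presheaf.stalkSpecializes e).hom =
      IsLocalRing.maximalIdeal (Y.presheaf.stalk a) := by
  subst h
  rw [TopCat.Presheaf.stalkSpecializes_refl, CommRingCat.hom_id]
  exact Ideal.map_id _

/-- The fibre ring of a composition with a map surjective on stalks. -/
theorem length_fib_comp_surjective {A B C : Scheme.{u}} (h : A ⟶ B) (q : B ⟶ C) (g : A ⟶ C) (w : h ≫ q = g) (z : A)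
    (hs : Function.Surjective (h.stalkMap z).hom) :
    Module.length (A.presheaf.stalk z) (A.presheaf.stalk z ⧸ fibIdeal g z) =
      Module.length (B.presheaf.stalk (h z))
        (B.presheaf.stalk (h z) ⧸ (fibIdeal q (h z) ⊔ RingHom.ker (h.stalkMap z).hom)) := by
  subst w
  have e : fibIdeal (h ≫ q) z = (fibIdeal q (h z)).map (h.stalkMap z).hom := by
    unfold fibIdeal
    rw [Scheme.Hom.stalkMap_comp, CommRingCat.hom_comp, ← Ideal.map_map]
    rfl
  letI := (h.stalkMap z).hom.toAlgebra
  let φ : B.presheaf.stalk (h z) →ₐ[B.presheaf.stalk (h z)] A.presheaf.stalk z ⧸ fibIdeal (h ≫ q) z :=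
    Algebra.ofId _ _
  have hφ : Function.Surjective φ := fun x => by
    obtain ⟨x, rfl⟩ := Ideal.Quotient.mk_surjective x
    obtain ⟨b, rfl⟩ := hs x
    exact ⟨b, rfl⟩
  have hk : RingHom.ker φ = fibIdeal q (h z) ⊔ RingHom.ker (h.stalkMap z).hom := by
    ext b
    rw [RingHom.ker_eq_comap_bot (h.stalkMap z).hom, ← Ideal.comap_map_of_surjective (h.stalkMap z).hom hs,
      Ideal.mem_comap, ← e]
    exact Ideal.Quotient.eq_zero_iff_mem
  rw [← Module.length_eq_of_surjective (R := A.presheaf.stalk z) (M := A.presheaf.stalk z ⧸ fibIdeal (h ≫ q) z) hs]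
  rw [← (Ideal.quotientKerAlgEquivOfSurjective hφ).toLinearEquiv.length_eq,
    (Submodule.quotEquivOfEq _ _ hk).length_eq]

variable {Y : Scheme.{u}} (v : AlgebraicCycle Y ℤ) {P P' : Scheme.{u}} {q₂ : P ⟶ Y} {h : P' ⟶ P} {pr₂ : P' ⟶ Wt v}
  (sq : IsPullback h pr₂ q₂ (jW v))

include sq in
/-- Over a point of the product there is exactly one point above each generic point. -/
theorem exists_unique_lift (a : Idx v) (t : P) (ht : q₂ t = a.1.1) :
    ∃ t' : P', h t' = t ∧ pr₂ t' = pt v a ∧ (∀ t'', h t'' = t → pr₂ t'' = pt v a → t'' = t') ∧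
      h.residueDegree t' = 1 ∧ Function.Surjective (h.stalkMap t').hom ∧
      RingHom.ker (h.stalkMap t').hom = fibIdeal q₂ (h t') := by
  let Q := pullback (compι v a) q₂
  have hw : pullback.snd (compι v a) q₂ ≫ q₂ = (pullback.fst (compι v a) q₂ ≫ incl v a) ≫ jW v := by
    rw [Category.assoc, incl_jW, pullback.condition]
  let φ : Q ⟶ P' := sq.lift (pullback.snd _ _) (pullback.fst _ _ ≫ incl v a) hw
  have hφ₁ : φ ≫ h = pullback.snd (compι v a) q₂ := sq.lift_fst _ _ _
  have hφ₂ : φ ≫ pr₂ = pullback.fst (compι v a) q₂ ≫ incl v a := sq.lift_snd _ _ _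
  have hQ : IsPullback φ (pullback.fst (compι v a) q₂) pr₂ (incl v a) := by
    refine IsPullback.of_right ?_ hφ₂ sq
    rw [hφ₁, incl_jW]
    exact (IsPullback.of_hasPullback (compι v a) q₂).flip
  haveI : IsOpenImmersion φ := MorphismProperty.of_isPullback hQ.flip (inferInstance : IsOpenImmersion (incl v a))
  obtain ⟨z, hz₁, hz₂⟩ := Scheme.exists_preimage_of_isPullback (IsPullback.of_hasPullback (compι v a) q₂)
    (genericPoint (comp v a)) t (by rw [compι_generic, ht])
  have hzh : h (φ z) = t := by rw [← Scheme.Hom.comp_apply, hφ₁, hz₂]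
  have hzp : pr₂ (φ z) = pt v a := by rw [← Scheme.Hom.comp_apply, hφ₂, Scheme.Hom.comp_apply, hz₁]; rfl
  refine ⟨φ z, hzh, hzp, fun t'' h₁ h₂ => ?_, ?_, ?_, ?_⟩
  · obtain ⟨z', -, hz'⟩ := Scheme.exists_preimage_of_isPullback hQ.flip (genericPoint (comp v a)) t''
      (by rw [h₂]; rfl)
    rw [← hz']
    refine congrArg φ ((pullback.snd (compι v a) q₂).isClosedEmbedding.injective ?_)
    rw [hz₂, ← hφ₁, Scheme.Hom.comp_apply, hz', h₁]
  · refine WeilCohLib.residueDegree_eq_one_of_surjective _ _ fun b => ?_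
    have h1 : ∀ f : Q ⟶ P, f = pullback.snd (compι v a) q₂ → Function.Surjective (f.residueFieldMap z).hom := by
      rintro _ rfl
      exact (bijective_residueFieldMap (pullback.snd (compι v a) q₂) _).2
    have h2 := h1 _ hφ₁
    rw [Scheme.residueFieldMap_comp] at h2
    obtain ⟨c, hc⟩ := h2 ((φ.residueFieldMap z).hom b)
    exact ⟨c, (φ.residueFieldMap z).hom.injective hc⟩
  all_goals
    have hiso := ConcreteCategory.bijective_of_isIso (φ.stalkMap z)
    have hcomp : (φ ≫ h).stalkMap z = h.stalkMap (φ z) ≫ φ.stalkMap z := Scheme.Hom.stalkMap_comp _ _ _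
  · intro b
    have h2 : Function.Surjective ((φ ≫ h).stalkMap z).hom := by
      have : ∀ f : Q ⟶ P, f = pullback.snd (compι v a) q₂ → Function.Surjective (f.stalkMap z).hom := by
        rintro _ rfl
        exact (pullback.snd (compι v a) q₂).stalkMap_surjective z
      exact this _ hφ₁
    rw [hcomp] at h2
    obtain ⟨c, hc⟩ := h2 ((φ.stalkMap z).hom b)
    exact ⟨c, hiso.1 hc⟩
  · have hker : ∀ f : Q ⟶ P, f = pullback.snd (compι v a) q₂ → RingHom.ker (f.stalkMap z).hom = fibIdeal q₂ (f z) := by
      rintro _ rfl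
      have hηz : q₂ (pullback.snd (compι v a) q₂ z) = compι v a (pullback.fst (compι v a) q₂ z) := by
        rw [hz₁, hz₂, ht, compι_generic]
      rw [ker_stalkMap_snd q₂ (compι v a) z (specializes_of_eq hηz)]
      have hgen : IsField ((comp v a).presheaf.stalk (pullback.fst (compι v a) q₂ z)) := by
        rw [hz₁]
        exact Field.toIsField (comp v a).functionField
      letI := hgen.toField
      have hm : RingHom.ker ((compι v a).stalkMap (pullback.fst (compι v a) q₂ z)).hom =
          IsLocalRing.maximalIdeal _ :=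
        IsLocalRing.eq_maximalIdeal
          (RingHom.ker_isMaximal_of_surjective _ ((compι v a).stalkMap_surjective _))
      rw [hm, CommRingCat.hom_comp, ← Ideal.map_map, map_maximalIdeal_specializes hηz]
    have h2 := hker _ hφ₁
    rw [hcomp, CommRingCat.hom_comp, RingHom.ker_comp_of_injective _ hiso.1] at h2
    exact h2

end Groth.Agent.CrossLib
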